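import Mathlib

/-!
# Rigidity lemma (non-flat form): collapsed locus is open and base changes factor

For `ξ : X ⟶ S` closed, surjective with `O_S ≅ ξ_* O_X`, and `f : X ⟶ Y`:
* `epi_of_surjective_of_app_injective`: surjective + injective on sections ⇒ epimorphism of schemes;
* `exists_local_factor`: if `f` collapses the fibre over `s` then `f` factors through `ξ`
  over a neighbourhood of `s`;
* `exists_factor`: if `f` collapses every fibre then `f = ξ ≫ r`;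
* `main`: the collapsed locus is open and `f_T` factors through `T` iff `T` maps into it.
-/

set_option autoImplicit false
set_option linter.style.haveILetI false
set_option linter.unusedSectionVars false
universe u
open CategoryTheory CategoryTheory.Limits AlgebraicGeometry TopologicalSpace

namespace Groth.Agent.Lib.Helper19.RigidityLemma

variable {X Y S : Scheme.{u}}

set_option backward.isDefEq.respectTransparency.types false in
lemma epi_of_surjective_of_app_injective {X Y : Scheme.{u}} (p : X ⟶ Y)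
    (h₁ : Function.Surjective p)
    (h₂ : ∀ U : Y.Opens, Function.Injective (p.app U).hom) : Epi p := by
  apply CategoryTheory.Functor.epi_of_epi_map (Scheme.forgetToLocallyRingedSpace)
  apply CategoryTheory.Functor.epi_of_epi_map (LocallyRingedSpace.forgetToSheafedSpace)
  constructor
  intro Z ⟨g, gc⟩ ⟨h, hc⟩ e
  apply_fun InducedCategory.Hom.hom at e
  obtain rfl : g = h := ConcreteCategory.hom_ext _ _ fun y ↦ by
    rw [← (h₁ y).choose_spec]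
    exact congr(($e).base.hom (h₁ y).choose)
  congr
  ext U s
  apply h₂
  have := congr(($e).c.app (Opposite.op U) s)
  exact this

lemma app_bijective_restrict (ξ : X ⟶ S)
    (h0 : ∀ U : S.Opens, Function.Bijective (ξ.app U).hom) (W : S.Opens)
    (O : W.toScheme.Opens) : Function.Bijective ((ξ ∣_ W).app O).hom := by
  rw [morphismRestrict_app]
  have h2 : Function.Bijective
      (X.presheaf.map (eqToHom (image_morphismRestrict_preimage ξ W O)).op).hom :=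
    ConcreteCategory.bijective_of_isIso _
  exact h2.comp (h0 _)

lemma surjective_restrict (ξ : X ⟶ S) (hs : Function.Surjective ξ) (W : S.Opens) :
    Function.Surjective (ξ ∣_ W) := by
  rw [morphismRestrict_base]
  rintro ⟨s, hs'⟩
  obtain ⟨x, rfl⟩ := hs s
  exact ⟨⟨x, hs'⟩, rfl⟩

lemma isClosedMap_restrict (ξ : X ⟶ S) (hcl : IsClosedMap ξ) (W : S.Opens) :
    IsClosedMap (ξ ∣_ W) := by
  rw [morphismRestrict_base]
  exact hcl.restrictPreimage _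

lemma epi_restrict (ξ : X ⟶ S) (hs : Function.Surjective ξ)
    (h0 : ∀ U : S.Opens, Function.Bijective (ξ.app U).hom) (W : S.Opens) : Epi (ξ ∣_ W) :=
  epi_of_surjective_of_app_injective _ (surjective_restrict ξ hs W)
    fun O ↦ (app_bijective_restrict ξ h0 W O).injective

lemma exists_local_factor (ξ : X ⟶ S) (hcl : IsClosedMap ξ)
    (h0 : ∀ U : S.Opens, Function.Bijective (ξ.app U).hom)
    (f : X ⟶ Y) (s : S) (y : Y) (hy : ∀ x, ξ x = s → f x = y) (U₀ : S.Opens) (hs : s ∈ U₀) :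
    ∃ W : S.Opens, s ∈ W ∧ W ≤ U₀ ∧
      ∃ r : W.toScheme ⟶ Y, (ξ ∣_ W) ≫ r = (ξ ⁻¹ᵁ W).ι ≫ f := by
  obtain ⟨V, hV, hyV⟩ : ∃ V : Y.Opens, IsAffineOpen V ∧ y ∈ V := by
    obtain ⟨_, ⟨V, hV, rfl⟩, hyV, -⟩ :=
      Y.isBasis_affineOpens.exists_subset_of_mem_open (Set.mem_univ y) isOpen_univ
    exact ⟨V, hV, hyV⟩
  let C : Set X := ((f ⁻¹ᵁ V : X.Opens) : Set X)ᶜ
  have hC : IsClosed C := (f ⁻¹ᵁ V).isOpen.isClosed_compl
  have hξC : IsClosed (ξ '' C) := hcl _ hC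
  let W : S.Opens := ⟨(ξ '' C)ᶜ, hξC.isOpen_compl⟩ ⊓ U₀
  have hsW : s ∈ W := by
    refine ⟨?_, hs⟩
    rintro ⟨x, hxC, hxs⟩
    exact hxC (by show f x ∈ V; rw [hy x hxs]; exact hyV)
  have hle : ξ ⁻¹ᵁ W ≤ f ⁻¹ᵁ V := by
    intro x hx
    by_contra hxV
    exact hx.1 ⟨x, hxV, rfl⟩
  refine ⟨W, hsW, inf_le_right, ?_⟩
  haveI : IsAffine V.toScheme := hV
  let g : (ξ ⁻¹ᵁ W).toScheme ⟶ V.toScheme :=
    IsOpenImmersion.lift V.ι ((ξ ⁻¹ᵁ W).ι ≫ f) (by
      rintro _ ⟨x, rfl⟩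
      simp only [Scheme.Opens.range_ι]
      exact hle x.2)
  have hg : g ≫ V.ι = (ξ ⁻¹ᵁ W).ι ≫ f := IsOpenImmersion.lift_fac _ _ _
  haveI : IsIso (ξ ∣_ W).appTop :=
    (ConcreteCategory.isIso_iff_bijective _).mpr (app_bijective_restrict ξ h0 W ⊤)
  let φ : Γ(V.toScheme, ⊤) ⟶ Γ(W.toScheme, ⊤) := g.appTop ≫ inv (ξ ∣_ W).appTop
  let r₀ : W.toScheme ⟶ V.toScheme :=
    W.toScheme.toSpecΓ ≫ Spec.map φ ≫ V.toScheme.isoSpec.inv
  refine ⟨r₀ ≫ V.ι, ?_⟩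
  rw [← hg, ← Category.assoc]
  congr 1
  rw [← cancel_mono V.toScheme.isoSpec.hom]
  simp only [r₀, Category.assoc, Iso.inv_hom_id, Category.comp_id]
  rw [Scheme.toSpecΓ_naturality_assoc, ← Spec.map_comp]
  simp only [φ, Category.assoc, IsIso.inv_hom_id, Category.comp_id]
  rw [← Scheme.toSpecΓ_naturality]
  rfl

theorem exists_factor (ξ : X ⟶ S) (hcl : IsClosedMap ξ) (hsurj : Function.Surjective ξ)
    (h0 : ∀ U : S.Opens, Function.Bijective (ξ.app U).hom) (f : X ⟶ Y)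
    (H : ∀ s : S, ∃ y : Y, ∀ x, ξ x = s → f x = y) : ∃ r : S ⟶ Y, ξ ≫ r = f := by
  let I := {W : S.Opens // ∃ r : W.toScheme ⟶ Y, (ξ ∣_ W) ≫ r = (ξ ⁻¹ᵁ W).ι ≫ f}
  have hnb : ∀ (U : S.Opens) (s : S), s ∈ U → ∃ i : I, s ∈ i.1 ∧ i.1 ≤ U := by
    intro U s hs
    obtain ⟨y, hy⟩ := H s
    obtain ⟨W, hsW, hWU, hr⟩ := exists_local_factor ξ hcl h0 f s y hy U hs
    exact ⟨⟨W, hr⟩, hsW, hWU⟩
  have hcov : IsOpenCover (fun i : I ↦ i.1) := by
    rw [IsOpenCover, eq_top_iff]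
    intro s _
    obtain ⟨i, hsi, -⟩ := hnb ⊤ s trivial
    exact Opens.mem_iSup.mpr ⟨i, hsi⟩
  let 𝒰 := S.openCoverOfIsOpenCover (fun i : I ↦ i.1) hcov
  letI : Preorder 𝒰.I₀ := inferInstanceAs (Preorder I)
  have key : ∀ i : I, (𝒰.f i).opensRange = i.1 := fun i ↦ Scheme.Opens.opensRange_ι _
  have hle : ∀ {i j : 𝒰.I₀}, i ≤ j ↔ (𝒰.f i).opensRange ≤ (𝒰.f j).opensRange := by
    intro i j
    exact (show ∀ i j : I, i ≤ j ↔ (𝒰.f i).opensRange ≤ (𝒰.f j).opensRange from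
      fun i j ↦ by rw [key i, key j]; rfl) i j
  have hB : Opens.IsBasis (Set.range fun i ↦ (𝒰.f i).opensRange) := by
    rw [Opens.isBasis_iff_nbhd]
    intro U s hs
    obtain ⟨i, hsi, hiU⟩ := hnb U s hs
    refine ⟨(𝒰.f i).opensRange, ⟨i, rfl⟩, ?_, ?_⟩
    · rw [key i]; exact hsi
    · rw [key i]; exact hiU
  letI := Scheme.Cover.LocallyDirected.ofIsBasisOpensRange hle hB
  let g : ∀ i, 𝒰.X i ⟶ Y := fun i ↦ i.2.choose
  have hg : ∀ i : I, (ξ ∣_ i.1) ≫ g i = (ξ ⁻¹ᵁ i.1).ι ≫ f := fun i ↦ i.2.choose_spec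
  have hcompat : ∀ {i j : 𝒰.I₀} (hij : i ⟶ j), 𝒰.trans hij ≫ g j = g i := by
    intro i j hij
    haveI := epi_restrict ξ hsurj h0 i.1
    have hle' : i.1 ≤ j.1 := leOfHom hij
    have htr : 𝒰.trans hij = S.homOfLE hle' := by
      rw [← cancel_mono (𝒰.f j), Scheme.Cover.trans_map]
      exact (S.homOfLE_ι hle').symm
    rw [htr]
    have h1 := hg i
    have h2 := hg j
    change S.homOfLE hle' ≫ g j = g i
    rw [← cancel_epi (ξ ∣_ i.1), h1, morphismRestrict_homOfLE_assoc, h2,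
      Scheme.homOfLE_ι_assoc]
  refine ⟨𝒰.glueMorphismsOfLocallyDirected g hcompat, ?_⟩
  have hcovX : IsOpenCover (fun i : I ↦ ξ ⁻¹ᵁ i.1) := by
    rw [IsOpenCover, eq_top_iff]
    intro x _
    obtain ⟨i, hsi, -⟩ := hnb ⊤ (ξ x) trivial
    exact Opens.mem_iSup.mpr ⟨i, hsi⟩
  have hfin : ∀ i : I, (ξ ⁻¹ᵁ i.1).ι ≫ ξ ≫ 𝒰.glueMorphismsOfLocallyDirected g hcompat =
      (ξ ⁻¹ᵁ i.1).ι ≫ f := by
    intro i
    rw [← morphismRestrict_ι_assoc, ← hg]
    congr 1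
    exact 𝒰.map_glueMorphismsOfLocallyDirected g hcompat i
  apply (X.openCoverOfIsOpenCover (fun i : I ↦ ξ ⁻¹ᵁ i.1) hcovX).hom_ext
  intro i
  exact hfin i

theorem main (ξ : X ⟶ S) (hcl : IsClosedMap ξ) (hsurj : Function.Surjective ξ)
    (h0 : ∀ U : S.Opens, Function.Bijective (ξ.app U).hom)
    (v : Y ⟶ S) (f : X ⟶ Y) (hf : f ≫ v = ξ) :
    IsOpen {s : ↥S | ∃ y : ↥Y, ∀ x : ↥X, ξ x = s → f x = y} ∧
    ∀ (T : Scheme.{u}) (τ : T ⟶ S),
      ((∃ r : T ⟶ Y, r ≫ v = τ ∧ pullback.fst ξ τ ≫ f = pullback.snd ξ τ ≫ r) ↔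
        ∀ t : ↥T, τ t ∈ {s : ↥S | ∃ y : ↥Y, ∀ x : ↥X, ξ x = s → f x = y}) := by
  have hopen : IsOpen {s : ↥S | ∃ y : ↥Y, ∀ x : ↥X, ξ x = s → f x = y} := by
    rw [isOpen_iff_forall_mem_open]
    rintro s ⟨y, hy⟩
    obtain ⟨W, hsW, -, r, hr⟩ := exists_local_factor ξ hcl h0 f s y hy ⊤ trivial
    refine ⟨W, ?_, W.isOpen, hsW⟩
    intro s' hs'
    refine ⟨r ⟨s', hs'⟩, fun x hx ↦ ?_⟩
    have hxW : x ∈ ξ ⁻¹ᵁ W := by show ξ x ∈ W; rw [hx]; exact hs'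
    have h1 := congr($hr ⟨x, hxW⟩)
    have h2 : (ξ ∣_ W) ⟨x, hxW⟩ = ⟨s', hs'⟩ := Subtype.ext (by
      rw [morphismRestrict_base_coe]; exact hx)
    simp only [Scheme.Hom.comp_apply] at h1
    rw [h2] at h1
    exact h1.symm
  refine ⟨hopen, fun T τ ↦ ⟨?_, ?_⟩⟩
  · rintro ⟨r, hrv, hr⟩ t
    refine ⟨r t, fun x hx ↦ ?_⟩
    obtain ⟨z, hz1, hz2⟩ := Scheme.Pullback.exists_preimage_pullback x t hx
    have := congr($hr z)
    simp only [Scheme.Hom.comp_apply] at this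
    rw [hz1, hz2] at this
    exact this
  · intro H
    let Uo : S.Opens := ⟨_, hopen⟩
    have hξ' := exists_factor (ξ ∣_ Uo) (isClosedMap_restrict ξ hcl Uo)
      (surjective_restrict ξ hsurj Uo) (app_bijective_restrict ξ h0 Uo) ((ξ ⁻¹ᵁ Uo).ι ≫ f) (by
        rintro ⟨s, y, hy⟩
        refine ⟨y, fun x hx ↦ ?_⟩
        have : ξ x.1 = s := by
          rw [← morphismRestrict_base_coe ξ Uo x, hx]
        exact hy x.1 this)
    obtain ⟨r', hr'⟩ := hξ'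
    haveI : Epi (ξ ∣_ Uo) := epi_restrict ξ hsurj h0 Uo
    have hr'v : r' ≫ v = Uo.ι := by
      rw [← cancel_epi (ξ ∣_ Uo), ← Category.assoc, hr', Category.assoc, hf, morphismRestrict_ι]
    let τ' : T ⟶ Uo.toScheme := IsOpenImmersion.lift Uo.ι τ (by
      rintro _ ⟨t, rfl⟩
      simp only [Scheme.Opens.range_ι]
      exact H t)
    have hτ' : τ' ≫ Uo.ι = τ := IsOpenImmersion.lift_fac _ _ _
    let fst' : pullback ξ τ ⟶ (ξ ⁻¹ᵁ Uo).toScheme :=
      IsOpenImmersion.lift (ξ ⁻¹ᵁ Uo).ι (pullback.fst ξ τ) (by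
        rintro _ ⟨z, rfl⟩
        simp only [Scheme.Opens.range_ι]
        show ξ (pullback.fst ξ τ z) ∈ Uo
        rw [← Scheme.Hom.comp_apply, pullback.condition, Scheme.Hom.comp_apply]
        exact H _)
    have hfst' : fst' ≫ (ξ ⁻¹ᵁ Uo).ι = pullback.fst ξ τ := IsOpenImmersion.lift_fac _ _ _
    refine ⟨τ' ≫ r', by rw [Category.assoc, hr'v, hτ'], ?_⟩
    have h3 : fst' ≫ (ξ ∣_ Uo) = pullback.snd ξ τ ≫ τ' := by
      rw [← cancel_mono Uo.ι, Category.assoc, morphismRestrict_ι, ← Category.assoc, hfst',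
        Category.assoc, hτ', pullback.condition]
    rw [← hfst', Category.assoc, ← hr', ← Category.assoc, h3, Category.assoc]

end Groth.Agent.Lib.Helper19.RigidityLemma
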